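import Cfsg.Agent.H79.CS.Tor

/-!
# The same inside a nondegenerate subspace `W`

`tri_sub`, `card_self_sub`.
-/

set_option autoImplicit false
set_option linter.unusedSectionVars false

namespace Cfsg.Agent.H79.CS

open Module Polynomial
open Cfsg.Agent.H951

section Main

variable {F V : Type*} [Field F] [Fintype F] [AddCommGroup V] [Module F V] [FiniteDimensional F V]
variable {ε : F} {B : V → V → F} {s w x : Module.End F V} {r : ℕ} {U U' W : Submodule F V} {f f' : F[X]}

/-- no eigenvalues `± 1` -/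
theorem no_eig (hB : Frm (RingHom.id F) ε B) (D : Dat B s U U' f f') (hw : Isom B w) (hws : Commute w s) {c : F}
    (hc : c * c = 1) (hne : w ≠ c • 1) : ∀ v, w v = c • v → v = 0 := by
  intro v hv
  by_contra hv0
  apply hne
  have hwU : Inv w U := inv_of_ker hws.symm D.ker
  have hwU' : Inv w U' := inv_of_ker hws.symm D.ker'
  have hcne : c ≠ 0 := by rintro rfl; rw [mul_zero] at hc; exact zero_ne_one hc
  -- the eigenspace is invariant under `s`
  have hinv : Inv s (LinearMap.ker (w - c • 1)) := by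
    intro u hu
    rw [LinearMap.mem_ker, LinearMap.sub_apply, LinearMap.smul_apply, Module.End.one_apply, sub_eq_zero] at *
    have h1 := LinearMap.congr_fun hws.eq u
    rw [Module.End.mul_apply, Module.End.mul_apply, hu, map_smul] at h1
    exact h1
  have hmem : ∀ u, u ∈ LinearMap.ker (w - c • (1 : Module.End F V)) ↔ w u = c • u := by
    intro u
    rw [LinearMap.mem_ker, LinearMap.sub_apply, LinearMap.smul_apply, Module.End.one_apply, sub_eq_zero]
  -- `w = c` on one of `U`, `U'`
  have key : ∀ {T : Submodule F V}, Irr s T → ∀ a ∈ T, a ≠ 0 → w a = c • a → ∀ u ∈ T, w u = c • u := by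
    intro T hT a ha ha0 hwa u hu
    rcases hT.2.2 (T ⊓ LinearMap.ker (w - c • 1)) inf_le_left (hT.2.1.inf hinv) with h | h
    · exfalso
      apply ha0
      rw [← Submodule.mem_bot F, ← h]
      exact ⟨ha, (hmem a).2 hwa⟩
    · rw [← h] at hu
      exact (hmem u).1 hu.2
  have hall : (∀ u ∈ U, w u = c • u) → (∀ u ∈ U', w u = c • u) → w = c • 1 := by
    intro h1 h2
    ext u
    obtain ⟨a, b, rfl⟩ := D.pr.exists_add u
    rw [map_add, h1 a a.2, h2 b b.2, LinearMap.smul_apply, Module.End.one_apply, smul_add]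
  obtain ⟨a, b, rfl⟩ := D.pr.exists_add v
  rw [map_add, smul_add] at hv
  have h1 : w a - c • (a : V) = c • (b : V) - w b := by
    rw [sub_eq_sub_iff_add_eq_add, hv, add_comm]
  have h2 : w a - c • (a : V) = 0 := by
    have h3 : w a - c • (a : V) ∈ U ⊓ U' := by
      refine ⟨U.sub_mem (hwU _ a.2) (U.smul_mem _ a.2), ?_⟩
      rw [SetLike.mem_coe, h1]
      exact U'.sub_mem (U'.smul_mem _ b.2) (hwU' _ b.2)
    rw [D.pr.compl.inf_eq_bot, Submodule.mem_bot] at h3
    exact h3
  have h3 : w b = c • (b : V) := by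
    rw [h2] at h1
    exact (sub_eq_zero.1 h1.symm).symm
  rw [sub_eq_zero] at h2
  by_cases ha : (a : V) = 0
  · -- `b ≠ 0`
    have hb : (b : V) ≠ 0 := by
      intro hb
      apply hv0
      rw [ha, hb, add_zero]
    have h4 := key D.irr' b b.2 hb h3
    refine hall (fun u hu => ?_) h4
    rw [← sub_eq_zero]
    apply D.pr.nd' _ (U.sub_mem (hwU u hu) (U.smul_mem _ hu))
    intro u' hu'
    have h5 := hw u u'
    rw [h4 u' hu', hB.smul_right, RingHom.id_apply] at h5
    rw [hB.sub_left, hB.smul_left, ← h5, ← mul_assoc, hc, one_mul, sub_self]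
  · have h4 := key D.irr a a.2 ha h2
    refine hall h4 (fun u hu => ?_)
    rw [← sub_eq_zero]
    apply D.pr.nd _ (U'.sub_mem (hwU' u hu) (U'.smul_mem _ hu))
    intro u' hu'
    have h5 := hw u' u
    rw [h4 u' hu', hB.smul_left] at h5
    rw [hB.sub_right, hB.smul_right, RingHom.id_apply, ← h5, ← mul_assoc, hc, one_mul, sub_self]

/-- the restricted form -/
def rB (B : V → V → F) (W : Submodule F V) : W → W → F := fun u v => B u v

theorem frm_rB (hB : Frm (RingHom.id F) ε B) : Frm (RingHom.id F) ε (rB B W) where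
  add_left _ _ _ := hB.add_left _ _ _
  smul_left _ _ _ := hB.smul_left _ _ _
  herm _ _ := hB.herm _ _
  sigma_sq := hB.sigma_sq
  eps_ne := hB.eps_ne

theorem nd_rB (h : Nd B W) : Nd (rB B W) ⊤ := by
  intro u _ hu0
  obtain ⟨v, hv, h1⟩ := h u.1 u.2 (fun h => hu0 (Subtype.ext h))
  exact ⟨⟨v, hv⟩, Submodule.mem_top, h1⟩

theorem isom_rB (hx : Isom B x) (hW : Inv x W) : Isom (rB B W) (x.restrict hW) := fun u v => hx u v

theorem restrict_pow_apply (hW : Inv x W) (n : ℕ) (u : W) : (((x.restrict hW) ^ n) u : V) = (x ^ n) u := by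
  induction n generalizing u with
  | zero => rfl
  | succ n ih => rw [pow_succ, pow_succ, Module.End.mul_apply, Module.End.mul_apply, ih]; rfl

/-- the hypotheses on `s`, `W` -/
structure Hyp (B : V → V → F) (s : Module.End F V) (W : Submodule F V) (r : ℕ) : Prop where
  nd : Nd B W
  r2 : r ≠ 2
  rF : (r : F) ≠ 0
  odd : Odd (orderOf (Fintype.card F : ZMod r))
  dim : finrank F W = 2 * orderOf (Fintype.card F : ZMod r)
  isom : Isom B s
  pow : s ^ r = 1
  inv : Inv s W
  fx : W ⊓ fx s = ⊥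
  even : ∀ W' ≤ W, Inv s W' → Nd B W' → Even (finrank F W')

theorem Hyp.exists_dat [Fact r.Prime] (hB : Frm (RingHom.id F) ε B) (h : Hyp B s W r) :
    ∃ (U U' : Submodule F W) (f f' : F[X]), finrank F U = orderOf (Fintype.card F : ZMod r) ∧
      Dat (rB B W) (s.restrict h.inv) U U' f f' := by
  refine Cfsg.Agent.H79.CS.exists_dat (frm_rB hB) (nd_rB h.nd) h.r2 h.rF h.odd h.dim (isom_rB h.isom h.inv) ?_ ?_ ?_
  · ext u
    rw [restrict_pow_apply, h.pow]
    rfl
  · rw [eq_bot_iff]
    intro u hu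
    rw [mem_fx] at hu
    have h1 : (u : V) ∈ W ⊓ Cfsg.Agent.H951.fx s := ⟨u.2, mem_fx.2 (congrArg Subtype.val hu)⟩
    rw [h.fx, Submodule.mem_bot] at h1
    rw [Submodule.mem_bot]
    exact Subtype.ext h1
  · intro W' h1 h2
    have h3 : finrank F (W'.map W.subtype) = finrank F W' := Submodule.finrank_map_subtype_eq _ _
    rw [← h3]
    apply h.even
    · exact Submodule.map_subtype_le _ _
    · rintro _ ⟨u, hu, rfl⟩
      exact ⟨_, h1 u hu, rfl⟩
    · rintro _ ⟨u, hu, rfl⟩ hu0
      obtain ⟨v, hv, h4⟩ := h2 u hu (fun h => hu0 (by rw [h]; rfl))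
      exact ⟨v, ⟨v, hv, rfl⟩, h4⟩

/-- **The centralizers, inside `W`.** -/
theorem Hyp.tri [Fact r.Prime] (hB : Frm (RingHom.id F) ε B) (h : Hyp B s W r) (hx : Isom B x) (hxs : Commute x s)
    (hxW : Inv x W) :
    (∀ v ∈ W, x v = v) ∨ (∀ v ∈ W, x v = -v) ∨
      ((∀ v ∈ W, x v = v → v = 0) ∧ (∀ v ∈ W, x v = -v → v = 0) ∧
        ∃ k m, 0 < k ∧ k * m = orderOf (Fintype.card F : ZMod r) ∧
          Nat.card {g : W ≃ₗ[F] W // (∀ u v : W, B (g u) (g v) = B u v) ∧
            ∀ v, g (x.restrict hxW v) = x.restrict hxW (g v)} = glc (Nat.card F ^ k) m) := by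
  obtain ⟨U, U', f, f', hU, D⟩ := h.exists_dat hB
  have hodd : Odd (finrank F U) := by rw [hU]; exact h.odd
  have hcomm : Commute (x.restrict hxW) (s.restrict h.inv) := by
    apply LinearMap.ext
    intro u
    apply Subtype.ext
    exact LinearMap.congr_fun hxs.eq u
  have hxi := isom_rB hx hxW
  by_cases h1 : x.restrict hxW = 1
  · left
    intro v hv
    exact congrArg Subtype.val (LinearMap.congr_fun h1 ⟨v, hv⟩)
  by_cases h2 : x.restrict hxW = -1
  · right; left
    intro v hv
    exact congrArg Subtype.val (LinearMap.congr_fun h2 ⟨v, hv⟩)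
  rcases Cfsg.Agent.H79.CS.tri (frm_rB hB) (nd_rB h.nd) D hodd hxi hcomm with h3 | h3 | ⟨P, hP, hPU, m, hm, hcard⟩
  · exact absurd h3 h1
  · exact absurd h3 h2
  right; right
  refine ⟨?_, ?_, P.natDegree, m, hP.natDegree_pos, hU ▸ hm, hcard⟩
  · intro v hv hxv
    have h4 := no_eig (frm_rB hB) D hxi hcomm (c := 1) (one_mul 1) (by rwa [one_smul]) ⟨v, hv⟩
      (by rw [one_smul]; exact Subtype.ext hxv)
    exact congrArg Subtype.val h4
  · intro v hv hxv
    have h4 := no_eig (frm_rB hB) D hxi hcomm (c := -1) (by rw [neg_mul_neg, one_mul]) (by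
        intro h
        apply h2
        ext u
        rw [h, LinearMap.smul_apply, neg_smul, one_smul, LinearMap.neg_apply])
      ⟨v, hv⟩ (by rw [neg_smul, one_smul]; exact Subtype.ext hxv)
    exact congrArg Subtype.val h4

/-- **The centralizer of `s`, inside `W`.** -/
theorem Hyp.card_self [Fact r.Prime] (hB : Frm (RingHom.id F) ε B) (h : Hyp B s W r) :
    Nat.card {g : W ≃ₗ[F] W // (∀ u v : W, B (g u) (g v) = B u v) ∧
      ∀ v, g (s.restrict h.inv v) = s.restrict h.inv (g v)} =
      Nat.card F ^ (orderOf (Fintype.card F : ZMod r)) - 1 := by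
  obtain ⟨U, U', f, f', hU, D⟩ := h.exists_dat hB
  have hodd : Odd (finrank F U) := by rw [hU]; exact h.odd
  have hpos : 0 < orderOf (Fintype.card F : ZMod r) := ord_pos h.rF
  obtain ⟨v, hv0⟩ : ∃ v : W, v ≠ 0 := by
    have h1 : 0 < finrank F W := by rw [h.dim]; omega
    have := Module.finrank_pos_iff.1 h1
    exact exists_ne 0
  have h1 : s.restrict h.inv ≠ 1 := by
    intro h1
    apply hv0
    apply Subtype.ext
    rw [Submodule.coe_zero, ← Submodule.mem_bot F (x := (v : V)), ← h.fx]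
    exact ⟨v.2, mem_fx.2 (congrArg Subtype.val (LinearMap.congr_fun h1 v))⟩
  have h2 : s.restrict h.inv ≠ -1 := by
    intro h2
    have hr : r.Prime := Fact.out
    have hro : Odd r := hr.odd_of_ne_two h.r2
    have h3 : (s.restrict h.inv) ^ r = 1 := by
      ext u
      rw [restrict_pow_apply, h.pow]
      rfl
    rw [h2] at h3
    have h5 : ∀ (n : ℕ) (u : W), ((-1 : Module.End F W) ^ n) u = ((-1 : F) ^ n) • u := by
      intro n
      induction n with
      | zero => intro u; rw [pow_zero, pow_zero, one_smul]; rfl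
      | succ n ih =>
        intro u
        rw [pow_succ, pow_succ, Module.End.mul_apply, ih, LinearMap.neg_apply, Module.End.one_apply, mul_neg_one,
          neg_smul, smul_neg]
    apply h1
    ext u
    have h6 := h5 r u
    rw [h3, hro.neg_one_pow, Module.End.one_apply, neg_smul, one_smul] at h6
    rw [h2, LinearMap.neg_apply, Module.End.one_apply, ← h6]
  have := Cfsg.Agent.H79.CS.card_self (frm_rB hB) (nd_rB h.nd) D hodd (isom_rB h.isom h.inv) h1 h2
  rw [hU] at this
  exact this

end Main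

end Cfsg.Agent.H79.CS
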