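import Mathlib

/-!
# The centralizer in `GL(V)` of an endomorphism with irreducible minimal polynomial

`card_comm` : it has order `|GL_m(q^k)|`, `k` the degree, `k m = dim V`.
-/

set_option autoImplicit false

namespace Cfsg.Agent.H79.CS

open Module Polynomial

/-- `|GL_m(Q)|` -/
def glc (Q m : ℕ) : ℕ := ∏ i ∈ Finset.range m, (Q ^ m - Q ^ i)

theorem card_linearEquiv {L V : Type*} [Field L] [Finite L] [AddCommGroup V] [Module L V] [FiniteDimensional L V] :
    Nat.card (V ≃ₗ[L] V) = glc (Nat.card L) (finrank L V) := by
  classical
  have := Fintype.ofFinite L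
  let b := Module.finBasis L V
  let e₁ : (V ≃ₗ[L] V) ≃ LinearMap.GeneralLinearGroup L V := (LinearMap.GeneralLinearGroup.generalLinearEquiv L V).symm.toEquiv
  let e₂ : LinearMap.GeneralLinearGroup L V ≃ GL (Fin (finrank L V)) L :=
    (Units.mapEquiv (LinearMap.toMatrixAlgEquiv b).toMulEquiv).toEquiv
  rw [Nat.card_congr (e₁.trans e₂), Matrix.card_GL_field, Nat.card_eq_fintype_card, glc,
    Finset.prod_range (fun i => Fintype.card L ^ finrank L V - Fintype.card L ^ i)]

theorem card_comm {F V : Type*} [Field F] [Finite F] [AddCommGroup V] [Module F V] [FiniteDimensional F V]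
    {x : Module.End F V} (hirr : Irreducible (minpoly F x)) :
    ∃ m, (minpoly F x).natDegree * m = finrank F V ∧
      Nat.card {g : V ≃ₗ[F] V // ∀ v, g (x v) = x (g v)} = glc (Nat.card F ^ (minpoly F x).natDegree) m := by
  have hf : Fact (Irreducible (minpoly F x)) := ⟨hirr⟩
  let L := AdjoinRoot (minpoly F x)
  let φ : L →ₐ[F] Module.End F V := Ideal.Quotient.liftₐ (Ideal.span {minpoly F x}) (aeval x) (by
    intro a ha
    obtain ⟨b, rfl⟩ := Ideal.mem_span_singleton'.1 ha
    rw [map_mul, minpoly.aeval, mul_zero])
  have hmk : ∀ p : F[X], φ (AdjoinRoot.mk (minpoly F x) p) = aeval x p := fun p => rfl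
  have hroot : φ (AdjoinRoot.root (minpoly F x)) = x := by
    rw [← AdjoinRoot.mk_X, hmk, aeval_X]
  let _ : Module L V := Module.compHom V φ.toRingHom
  have hsm : ∀ (l : L) (v : V), l • v = φ l v := fun _ _ => rfl
  have _ : IsScalarTower F L V := ⟨fun c l v => by
    rw [hsm, hsm, map_smul, LinearMap.smul_apply]⟩
  have hne := minpoly.ne_zero_of_finite F x
  have hfd : FiniteDimensional F L := (AdjoinRoot.powerBasis hne).finite
  have hfr : finrank F L = (minpoly F x).natDegree := by
    rw [(AdjoinRoot.powerBasis hne).finrank, AdjoinRoot.powerBasis_dim]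
  have hL : Finite L := Module.finite_of_finite F
  have hcard : Nat.card L = Nat.card F ^ (minpoly F x).natDegree := by
    rw [← hfr]
    exact Module.natCard_eq_pow_finrank
  have hfdL : FiniteDimensional L V := Module.Finite.of_restrictScalars_finite F L V
  have key : ∀ (g : V ≃ₗ[F] V), (∀ v, g (x v) = x (g v)) → ∀ (l : L) (v : V), g (l • v) = l • g v := by
    intro g hg l
    induction l using AdjoinRoot.induction_on with
    | ih p =>
      intro v
      rw [hsm, hsm, hmk]
      induction p using Polynomial.induction_on' generalizing v with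
      | add p q hp hq =>
        rw [map_add, LinearMap.add_apply, LinearMap.add_apply, map_add, hp, hq]
      | monomial n a =>
        rw [aeval_monomial, Module.End.mul_apply, Module.End.mul_apply, Module.algebraMap_end_apply,
          Module.algebraMap_end_apply, map_smul]
        congr 1
        have h2 : ∀ (n : ℕ) (v : V), g ((x ^ n) v) = (x ^ n) (g v) := by
          intro n
          induction n with
          | zero => intro v; rfl
          | succ n ih =>
            intro v
            rw [pow_succ', Module.End.mul_apply, Module.End.mul_apply, hg, ih]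
        exact h2 n v
  let e : {g : V ≃ₗ[F] V // ∀ v, g (x v) = x (g v)} ≃ (V ≃ₗ[L] V) :=
    { toFun := fun g => { g.1 with map_smul' := fun l v => key g.1 g.2 l v }
      invFun := fun g => ⟨g.restrictScalars F, fun v => by
        have h1 := g.map_smul (AdjoinRoot.root (minpoly F x)) v
        rw [hsm, hsm, hroot] at h1
        exact h1⟩
      left_inv := fun g => rfl
      right_inv := fun g => rfl }
  refine ⟨finrank L V, ?_, ?_⟩
  · rw [← hfr]
    exact Module.finrank_mul_finrank F L V
  · rw [Nat.card_congr e, card_linearEquiv, hcard]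

end Cfsg.Agent.H79.CS
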