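import Cfsg.Agent.H951.Block
import Cfsg.Agent.H951.Decomp
import Cfsg.Agent.H79.CS.GL

/-!
# Isometries preserving a pair of totally isotropic subspaces in duality

`card_pair` : the isometries commuting with `w` correspond to the automorphisms of `U` commuting with `w|U`.
-/

set_option autoImplicit false
set_option linter.unusedSectionVars false

namespace Cfsg.Agent.H79.CS

open Module Polynomial
open Cfsg.Agent.H951

variable {F V : Type*} [Field F] [AddCommGroup V] [Module F V]
variable {ε : F} {B : V → V → F} {U U' : Submodule F V}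

/-- `V = U ⊕ U'`, both totally isotropic. -/
structure Pr (B : V → V → F) (U U' : Submodule F V) : Prop where
  ti : TI B U
  ti' : TI B U'
  compl : IsCompl U U'
  nd : ∀ u' ∈ U', (∀ u ∈ U, B u u' = 0) → u' = 0
  nd' : ∀ u ∈ U, (∀ u' ∈ U', B u u' = 0) → u = 0

/-- the map `U' → U*` -/
def toDual (hB : Frm (RingHom.id F) ε B) (U U' : Submodule F V) : U' →ₗ[F] Module.Dual F U where
  toFun u' :=
    { toFun := fun u => B u u'
      map_add' := fun a b => hB.add_left _ _ _
      map_smul' := fun a b => hB.smul_left _ _ _ }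
  map_add' a b := by
    ext u
    exact hB.add_right _ _ _
  map_smul' a b := by
    ext u
    exact hB.smul_right _ _ _

theorem toDual_apply (hB : Frm (RingHom.id F) ε B) (U U' : Submodule F V) (u : U) (u' : U') :
    toDual hB U U' u' u = B u u' := rfl

/-- the other one -/
def toDual' (hB : Frm (RingHom.id F) ε B) (U U' : Submodule F V) : U →ₗ[F] Module.Dual F U' where
  toFun u :=
    { toFun := fun u' => B u u'
      map_add' := fun a b => hB.add_right _ _ _
      map_smul' := fun a b => hB.smul_right _ _ _ }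
  map_add' a b := by
    ext u
    exact hB.add_left _ _ _
  map_smul' a b := by
    ext u
    exact hB.smul_left _ _ _

variable [FiniteDimensional F V]

theorem Pr.inj (hB : Frm (RingHom.id F) ε B) (h : Pr B U U') : Function.Injective (toDual hB U U') := by
  rw [injective_iff_map_eq_zero]
  intro u' hu'
  apply Subtype.ext
  exact h.nd u'.1 u'.2 (fun u hu => LinearMap.congr_fun hu' ⟨u, hu⟩)

theorem Pr.inj' (hB : Frm (RingHom.id F) ε B) (h : Pr B U U') : Function.Injective (toDual' hB U U') := by
  rw [injective_iff_map_eq_zero]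
  intro u hu
  apply Subtype.ext
  exact h.nd' u.1 u.2 (fun u' hu' => LinearMap.congr_fun hu ⟨u', hu'⟩)

theorem Pr.finrank_eq (hB : Frm (RingHom.id F) ε B) (h : Pr B U U') : finrank F U' = finrank F U := by
  have h1 := LinearMap.finrank_le_finrank_of_injective (h.inj hB)
  have h2 := LinearMap.finrank_le_finrank_of_injective (h.inj' hB)
  rw [Subspace.dual_finrank_eq] at h1 h2
  exact le_antisymm h1 h2

/-- the isomorphism `U' ≅ U*` -/
noncomputable def Pr.dual (hB : Frm (RingHom.id F) ε B) (h : Pr B U U') : U' ≃ₗ[F] Module.Dual F U :=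
  LinearEquiv.ofBijective (toDual hB U U') ⟨h.inj hB, by
    have h1 : finrank F U' = finrank F (Module.Dual F U) := by rw [Subspace.dual_finrank_eq, h.finrank_eq hB]
    exact (LinearMap.injective_iff_surjective_of_finrank_eq_finrank h1).1 (h.inj hB)⟩

theorem Pr.dual_apply (hB : Frm (RingHom.id F) ε B) (h : Pr B U U') (u : U) (u' : U') :
    h.dual hB u' u = B u u' := rfl

/-- the contragredient map -/
noncomputable def Pr.contra (hB : Frm (RingHom.id F) ε B) (h : Pr B U U') (k : U ≃ₗ[F] U) : U' ≃ₗ[F] U' :=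
  ((h.dual hB).trans k.symm.dualMap).trans (h.dual hB).symm

theorem Pr.contra_apply (hB : Frm (RingHom.id F) ε B) (h : Pr B U U') (k : U ≃ₗ[F] U) (u : U) (u' : U') :
    B u (h.contra hB k u') = B (k.symm u : U) u' := by
  rw [← h.dual_apply hB, Pr.contra, LinearEquiv.trans_apply, LinearEquiv.apply_symm_apply, LinearEquiv.trans_apply,
    LinearEquiv.dualMap_apply, h.dual_apply hB]

theorem Pr.contra_apply' (hB : Frm (RingHom.id F) ε B) (h : Pr B U U') (k : U ≃ₗ[F] U) (u : U) (u' : U') :
    B (k u : U) (h.contra hB k u') = B u u' := by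
  rw [h.contra_apply, LinearEquiv.symm_apply_apply]

/-- the isometry extending `k` -/
noncomputable def Pr.ext (hB : Frm (RingHom.id F) ε B) (h : Pr B U U') (k : U ≃ₗ[F] U) : V ≃ₗ[F] V :=
  ((Submodule.prodEquivOfIsCompl U U' h.compl).symm.trans (k.prodCongr (h.contra hB k))).trans
    (Submodule.prodEquivOfIsCompl U U' h.compl)

theorem Pr.ext_apply (hB : Frm (RingHom.id F) ε B) (h : Pr B U U') (k : U ≃ₗ[F] U) (u : U) (u' : U') :
    h.ext hB k ((u : V) + u') = (k u : U) + (h.contra hB k u' : U') := by
  have h1 : (u : V) + u' = Submodule.prodEquivOfIsCompl U U' h.compl (u, u') := by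
    rw [Submodule.coe_prodEquivOfIsCompl']
  rw [h1, Pr.ext, LinearEquiv.trans_apply, LinearEquiv.trans_apply, LinearEquiv.symm_apply_apply,
    LinearEquiv.prodCongr_apply, Submodule.coe_prodEquivOfIsCompl']

theorem Pr.ext_left (hB : Frm (RingHom.id F) ε B) (h : Pr B U U') (k : U ≃ₗ[F] U) (u : U) :
    h.ext hB k (u : V) = (k u : U) := by
  have h1 := h.ext_apply hB k u 0
  rwa [map_zero, Submodule.coe_zero, add_zero, add_zero] at h1

theorem Pr.ext_right (hB : Frm (RingHom.id F) ε B) (h : Pr B U U') (k : U ≃ₗ[F] U) (u' : U') :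
    h.ext hB k (u' : V) = (h.contra hB k u' : U') := by
  have h1 := h.ext_apply hB k 0 u'
  rwa [map_zero, Submodule.coe_zero, zero_add, zero_add] at h1

theorem Pr.exists_add (h : Pr B U U') (v : V) : ∃ (u : U) (u' : U'), v = u + u' := by
  have h1 : v ∈ U ⊔ U' := by rw [h.compl.sup_eq_top]; trivial
  obtain ⟨a, ha, b, hb, hab⟩ := Submodule.mem_sup.1 h1
  exact ⟨⟨a, ha⟩, ⟨b, hb⟩, hab.symm⟩

theorem Pr.ext_isom (hB : Frm (RingHom.id F) ε B) (h : Pr B U U') (k : U ≃ₗ[F] U) (v w : V) :
    B (h.ext hB k v) (h.ext hB k w) = B v w := by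
  obtain ⟨a, a', rfl⟩ := h.exists_add v
  obtain ⟨b, b', rfl⟩ := h.exists_add w
  rw [h.ext_apply, h.ext_apply]
  simp only [hB.add_left, hB.add_right]
  rw [h.ti _ (k a).2 _ (k b).2, h.ti' _ (h.contra hB k a').2 _ (h.contra hB k b').2, h.ti _ a.2 _ b.2,
    h.ti' _ a'.2 _ b'.2, h.contra_apply' hB, hB.herm (k b : U) (h.contra hB k a' : U'), h.contra_apply' hB,
    ← hB.herm]

/-- **the isometries commuting with `w`** correspond to the automorphisms of `U` commuting with `w|U`. -/
theorem Pr.card_comm (hB : Frm (RingHom.id F) ε B) (h : Pr B U U') {w : Module.End F V} (hw : Isom B w)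
    (hwU : Inv w U) (hwU' : Inv w U')
    (hU : ∀ g : V ≃ₗ[F] V, (∀ u v, B (g u) (g v) = B u v) → (∀ v, g (w v) = w (g v)) → Inv g.toLinearMap U)
    (hU' : ∀ g : V ≃ₗ[F] V, (∀ u v, B (g u) (g v) = B u v) → (∀ v, g (w v) = w (g v)) → Inv g.toLinearMap U') :
    Nat.card {g : V ≃ₗ[F] V // (∀ u v, B (g u) (g v) = B u v) ∧ ∀ v, g (w v) = w (g v)} =
      Nat.card {g : U ≃ₗ[F] U // ∀ v, g (w.restrict hwU v) = w.restrict hwU (g v)} := by
  have hinj : ∀ (g : V ≃ₗ[F] V) (hg : Inv g.toLinearMap U), Function.Injective (g.toLinearMap.restrict hg) := by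
    intro g hg a b hab
    apply Subtype.ext
    have := congrArg Subtype.val hab
    exact g.injective this
  refine Nat.card_congr (Equiv.ofBijective (fun g => ⟨LinearEquiv.ofInjectiveEndo
    (g.1.toLinearMap.restrict (hU g.1 g.2.1 g.2.2)) (hinj _ _), fun v => ?_⟩) ⟨?_, ?_⟩)
  · apply Subtype.ext
    exact g.2.2 v
  · rintro ⟨g, hg, hgw⟩ ⟨k, hk, hkw⟩ hgk
    have hgk' : ∀ u ∈ U, g u = k u := by
      intro u hu
      have h1 := congrArg Subtype.val hgk
      have h2 := LinearEquiv.congr_fun h1 ⟨u, hu⟩
      exact congrArg Subtype.val h2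
    have hgk'' : ∀ u ∈ U', g u = k u := by
      intro u hu
      rw [← sub_eq_zero]
      apply h.nd _ (U'.sub_mem (hU' g hg hgw u hu) (hU' k hk hkw u hu))
      intro a ha
      -- `a = g b`
      have hmap : U.map g.toLinearMap = U := map_eq_of_inv g.injective (hU g hg hgw)
      rw [← hmap] at ha
      obtain ⟨b, hb, rfl⟩ := ha
      rw [hB.sub_right, sub_eq_zero]
      show B (g b) (g u) = B (g b) (k u)
      rw [hg, hgk' b hb, hk]
    apply Subtype.ext
    apply LinearEquiv.ext
    intro v
    obtain ⟨a, b, rfl⟩ := h.exists_add v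
    show g (a + b) = k (a + b)
    rw [map_add, map_add, hgk' _ a.2, hgk'' _ b.2]
  · rintro ⟨k, hk⟩
    refine ⟨⟨h.ext hB k, h.ext_isom hB k, fun v => ?_⟩, ?_⟩
    · obtain ⟨a, b, rfl⟩ := h.exists_add v
      rw [map_add, map_add, map_add, map_add]
      have h1 : h.ext hB k (w a) = w (h.ext hB k a) := by
        have h2 : w a = ((w.restrict hwU a : U) : V) := rfl
        rw [h2, h.ext_left, h.ext_left, hk]
        rfl
      have h3 : h.ext hB k (w b) = w (h.ext hB k b) := by
        have h2 : w b = ((w.restrict hwU' b : U') : V) := rfl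
        rw [← sub_eq_zero]
        apply h.nd
        · rw [h2, h.ext_right, h.ext_right]
          exact U'.sub_mem (h.contra hB k _).2 (hwU' _ (h.contra hB k _).2)
        · intro u hu
          -- `u = k (w c)`
          have hwinj : Function.Injective (w.restrict hwU) := by
            rw [injective_iff_map_eq_zero]
            intro c hc
            apply Subtype.ext
            apply h.nd' _ c.2
            intro d hd
            rw [← hw]
            have : w c = 0 := congrArg Subtype.val hc
            rw [this, hB.zero_left]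
          have hwsurj := LinearMap.injective_iff_surjective.1 hwinj
          obtain ⟨c₁, hc₁⟩ := k.surjective ⟨u, hu⟩
          obtain ⟨c, rfl⟩ := hwsurj c₁
          have hu1 : u = (k (w.restrict hwU c) : U) := by rw [hc₁]
          rw [hB.sub_right, sub_eq_zero, hu1, h2, h.ext_right, h.contra_apply', hk, h.ext_right]
          show B (w c) (w b) = B (w (k c : U)) (w (h.contra hB k b : U'))
          rw [hw, hw, h.contra_apply']
      rw [h1, h3]
    · apply Subtype.ext
      apply LinearEquiv.ext
      intro u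
      apply Subtype.ext
      exact h.ext_left hB k u

end Cfsg.Agent.H79.CS
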