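import Cfsg.Agent.H79.CS.Pair

/-!
# Isometries commuting with an isometry `s` of order `r` of a space of dimension `2 n`, `n` odd the order of `q` mod `r`

`tri` : `w` commuting with `s` is `1` or `-1` or has centralizer `GL_m(q^k)`, `k m = n`.
`card_self` : the centralizer of `s` has order `q^n - 1`.
-/

set_option autoImplicit false
set_option linter.unusedSectionVars false

namespace Cfsg.Agent.H79.CS

open Module Polynomial
open Cfsg.Agent.H951

section Lin

variable {F V : Type*} [Field F] [AddCommGroup V] [Module F V]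
variable {U U' : Submodule F V} {s w : Module.End F V}

/-- irreducible polynomials killing a common vector have the same kernel -/
lemma kill_of_kill {P P' : F[X]} (hP : Irreducible P) {v : V} (hv0 : v ≠ 0) (h : aeval w P v = 0) (h' : aeval w P' v = 0) :
    P ∣ P' := by
  by_contra hno
  have hcop : IsCoprime P P' := (Irreducible.coprime_iff_not_dvd hP).2 hno
  obtain ⟨a, b, hab⟩ := hcop
  apply hv0
  have h1 : aeval w (a * P + b * P') v = v := by rw [hab, map_one]; rfl
  rw [← h1, map_add, map_mul, map_mul, LinearMap.add_apply, Module.End.mul_apply, Module.End.mul_apply, h, h', map_zero,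
    map_zero, add_zero]

lemma kill_mul {P P' : F[X]} (h : P ∣ P') {u : V} (hu : aeval w P u = 0) : aeval w P' u = 0 := by
  obtain ⟨c, rfl⟩ := h
  rw [mul_comm, map_mul, Module.End.mul_apply, hu, map_zero]

lemma comm_aeval (hws : Commute w s) (P : F[X]) : Commute s (aeval w P) := by
  induction P using Polynomial.induction_on' with
  | add p q hp hq => rw [map_add]; exact hp.add_right hq
  | monomial n a =>
    rw [aeval_monomial]
    exact Commute.mul_right (Algebra.commutes a s).symm (hws.symm.pow_right n)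

lemma inv_ker_comm (hws : Commute w s) (P : F[X]) : Inv s (LinearMap.ker (aeval w P)) := by
  intro v hv
  rw [LinearMap.mem_ker] at *
  rw [← Module.End.mul_apply, ← (comm_aeval hws P).eq, Module.End.mul_apply, hv, map_zero]

lemma ker_eq (hc : IsCompl U U') (hU' : Irr s U') (hws : Commute w s) {P : F[X]} (h1 : ∀ u ∈ U, aeval w P u = 0)
    (h2 : ¬ ∀ u ∈ U', aeval w P u = 0) : LinearMap.ker (aeval w P) = U := by
  have h3 : U' ⊓ LinearMap.ker (aeval w P) = ⊥ := by
    rcases hU'.2.2 (U' ⊓ LinearMap.ker (aeval w P)) inf_le_left (hU'.2.1.inf (inv_ker_comm hws P)) with h | h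
    · exact h
    · exfalso
      apply h2
      intro u hu
      rw [← h] at hu
      exact LinearMap.mem_ker.1 hu.2
  apply le_antisymm
  · intro v hv
    have hv' : v ∈ U ⊔ U' := by rw [hc.sup_eq_top]; trivial
    obtain ⟨a, ha, b, hb, rfl⟩ := Submodule.mem_sup.1 hv'
    have h4 : b ∈ U' ⊓ LinearMap.ker (aeval w P) := by
      refine ⟨hb, ?_⟩
      rw [SetLike.mem_coe, LinearMap.mem_ker] at *
      rwa [map_add, h1 a ha, zero_add] at hv
    rw [h3, Submodule.mem_bot] at h4
    rw [h4, add_zero]
    exact ha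
  · intro u hu
    exact LinearMap.mem_ker.2 (h1 u hu)

/-- an operator commuting with `w` preserves the kernels of the polynomials in `w` -/
lemma inv_of_ker {g : Module.End F V} (hg : Commute w g) {P : F[X]} (h : LinearMap.ker (aeval w P) = U) : Inv g U := by
  rw [← h]
  exact inv_ker_comm hg P

/-- an irreducible polynomial killing `U` at `w` -/
lemma exists_kill [FiniteDimensional F V] (hU : Irr s U) (hws : Commute w s) (hwU : Inv w U) :
    ∃ P : F[X], Irreducible P ∧ ∀ u ∈ U, aeval w P u = 0 := by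
  obtain ⟨v, hv, hv0⟩ := (Submodule.ne_bot_iff _).1 hU.1
  obtain ⟨P, hP, -, u, hu, hu0, hPu⟩ := exists_irreducible_factor hwU (minpoly F w) (minpoly.ne_zero_of_finite F w)
    v hv hv0 (by rw [minpoly.aeval]; rfl)
  refine ⟨P, hP, ?_⟩
  rcases hU.2.2 (U ⊓ LinearMap.ker (aeval w P)) inf_le_left (hU.2.1.inf (inv_ker_comm hws P)) with h | h
  · exfalso
    apply hu0
    rw [← Submodule.mem_bot F, ← h]
    exact ⟨hu, LinearMap.mem_ker.2 hPu⟩
  · intro x hx
    rw [← h] at hx
    exact LinearMap.mem_ker.1 hx.2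

/-- a self-reciprocal irreducible polynomial of odd degree has degree one -/
lemma sq_eq_one_of_recip {F : Type*} [Field F] [Finite F] {P : F[X]} [hP : Fact (Irreducible P)] (hodd : Odd P.natDegree)
    {b : AdjoinRoot P} (hb : b * AdjoinRoot.root P = 1) (hPb : aeval b P = 0) :
    b = AdjoinRoot.root P := by
  classical
  let L := AdjoinRoot P
  have hfd : FiniteDimensional F L := (AdjoinRoot.powerBasis hP.1.ne_zero).finite
  have hfr : finrank F L = P.natDegree := by
    rw [(AdjoinRoot.powerBasis hP.1.ne_zero).finrank, AdjoinRoot.powerBasis_dim]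
  have hLf : Finite L := Module.finite_of_finite F
  have ha0 : AdjoinRoot.root P ≠ 0 := right_ne_zero_of_mul_eq_one hb
  have hb' : b = (AdjoinRoot.root P)⁻¹ := eq_inv_of_mul_eq_one_left hb
  let φ : L →ₐ[F] L := AdjoinRoot.liftAlgHom P (Algebra.ofId F L) b (by
    have h1 := hPb
    rw [aeval_def] at h1
    exact h1)
  have h1 : φ (AdjoinRoot.root P) = b := AdjoinRoot.liftAlgHom_root _ _ _ _
  have h2 : φ b = AdjoinRoot.root P := by
    rw [hb', map_inv₀, h1, hb', inv_inv]
  have h3 : φ.comp φ = AlgHom.id F L := by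
    apply AdjoinRoot.algHom_ext
    rw [AlgHom.comp_apply, h1, h2]
    rfl
  let e : L ≃ₐ[F] L := AlgEquiv.ofAlgHom φ φ h3 h3
  have he : e ^ 2 = 1 := by
    rw [pow_two]
    ext x
    exact DFunLike.congr_fun h3 x
  have hgal : Nat.card (L ≃ₐ[F] L) = P.natDegree := by
    rw [← hfr]
    exact IsGalois.card_aut_eq_finrank F L
  have h4 : orderOf e ∣ 2 := orderOf_dvd_of_pow_eq_one he
  have h5 : orderOf e ∣ P.natDegree := by
    rw [← hgal]
    exact orderOf_dvd_natCard e
  have h6 : orderOf e = 1 := by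
    rcases (Nat.dvd_prime Nat.prime_two).1 h4 with h | h
    · exact h
    · exfalso
      rw [h] at h5
      exact (Nat.not_even_iff_odd.2 hodd) (even_iff_two_dvd.2 h5)
  rw [orderOf_eq_one_iff] at h6
  have h7 : e (AdjoinRoot.root P) = b := h1
  rw [h6] at h7
  exact h7.symm.trans rfl

/-- the linear version -/
lemma eq_one_or_neg_one {F V : Type*} [Field F] [Finite F] [AddCommGroup V] [Module F V] {w : Module.End F V} {P : F[X]}
    (hP : Irreducible P) (hodd : Odd P.natDegree) (hPw : ∀ v, aeval w P v = 0) {N : ℕ} (hN : 0 < N) (hw : w ^ N = 1)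
    {v : V} (hv0 : v ≠ 0) (hv : aeval w (expand F (N - 1) P) v = 0) : w = 1 ∨ w = -1 := by
  have hf : Fact (Irreducible P) := ⟨hP⟩
  have h1 : P ∣ expand F (N - 1) P := kill_of_kill hP hv0 (hPw v) hv
  have h2 : P ∣ X ^ N - 1 := by
    refine kill_of_kill (w := w) hP hv0 (hPw v) ?_
    rw [map_sub, map_one, map_pow, aeval_X, hw, sub_self]
    rfl
  have hN1 : N - 1 + 1 = N := Nat.succ_pred_eq_of_pos hN
  have h3 : (AdjoinRoot.root P) ^ (N - 1) * AdjoinRoot.root P = 1 := by
    rw [← pow_succ, hN1]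
    have h4 : AdjoinRoot.mk P (X ^ N - 1) = 0 := AdjoinRoot.mk_eq_zero.2 h2
    rw [map_sub, map_pow, map_one, AdjoinRoot.mk_X, sub_eq_zero] at h4
    exact h4
  have h4 : aeval ((AdjoinRoot.root P) ^ (N - 1)) P = 0 := by
    rw [← expand_aeval, AdjoinRoot.aeval_eq]
    exact AdjoinRoot.mk_eq_zero.2 h1
  have h5 := sq_eq_one_of_recip hodd h3 h4
  rw [h5] at h3
  have h6 : P ∣ (X - 1) * (X + 1) := by
    rw [← AdjoinRoot.mk_eq_zero, map_mul, map_sub, map_add, map_one, AdjoinRoot.mk_X]
    linear_combination h3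
  rcases hP.prime.dvd_or_dvd h6 with h | h
  · left
    ext u
    have h7 := kill_mul h (hPw u)
    rw [map_sub, map_one, aeval_X, LinearMap.sub_apply, sub_eq_zero] at h7
    exact h7
  · right
    ext u
    have h7 := kill_mul h (hPw u)
    rw [map_add, map_one, aeval_X, LinearMap.add_apply, Module.End.one_apply] at h7
    rw [LinearMap.neg_apply, Module.End.one_apply]
    exact eq_neg_of_add_eq_zero_left h7

end Lin

section Main

variable {F V : Type*} [Field F] [Fintype F] [AddCommGroup V] [Module F V] [FiniteDimensional F V]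
variable {ε : F} {B : V → V → F} {s w : Module.End F V} {r : ℕ} {U U' : Submodule F V} {f f' : F[X]}

/-- the data -/
structure Dat (B : V → V → F) (s : Module.End F V) (U U' : Submodule F V) (f f' : F[X]) : Prop where
  pr : Pr B U U'
  irr : Irr s U
  irr' : Irr s U'
  hf : Irreducible f
  hf' : Irreducible f'
  ker : LinearMap.ker (aeval s f) = U
  ker' : LinearMap.ker (aeval s f') = U'

theorem exists_dat (hB : Frm (RingHom.id F) ε B) (hnd : Nd B ⊤) [Fact r.Prime] (hr2 : r ≠ 2) (hr : (r : F) ≠ 0)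
    (hodd : Odd (orderOf (Fintype.card F : ZMod r))) (hdim : finrank F V = 2 * orderOf (Fintype.card F : ZMod r))
    (hs : Isom B s) (hsr : s ^ r = 1) (hfx : fx s = ⊥)
    (heven : ∀ W : Submodule F V, Inv s W → Nd B W → Even (finrank F W)) :
    ∃ (U U' : Submodule F V) (f f' : F[X]), finrank F U = orderOf (Fintype.card F : ZMod r) ∧ Dat B s U U' f f' := by
  have hrP : r.Prime := Fact.out
  have hinj : Function.Injective s := by
    obtain ⟨t, rfl⟩ : ∃ t, r = t + 1 := ⟨r - 1, by have := hrP.pos; omega⟩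
    intro u v huv
    have h : ∀ w : V, (s ^ t) (s w) = w := by
      intro w
      rw [← Module.End.mul_apply, ← pow_succ, hsr]
      rfl
    rw [← h u, ← h v, huv]
  have hss := semisimple_of_pow hr hsr
  have hcm : cm s = ⊤ := by
    have := (isCompl_fx_cm hr hsr).sup_eq_top
    rwa [hfx, bot_sup_eq] at this
  have hpos : 0 < orderOf (Fintype.card F : ZMod r) := ord_pos hr
  have htop : (⊤ : Submodule F V) ≠ ⊥ := by
    intro h
    have h1 : finrank F (⊤ : Submodule F V) = 0 := by rw [h, finrank_bot]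
    rw [finrank_top, hdim] at h1
    omega
  rcases exists_block hB hs hinj hss inv_top hnd htop with ⟨U, -, hU, hUn⟩ |
    ⟨U, U', -, -, hU, hU', hti, hti', hdis, hp, -⟩
  · exfalso
    have hd := hU.finrank_eq hr hsr (by rw [hcm]; exact le_top)
    have h1 := heven U hU.2.1 hUn
    rw [hd] at h1
    exact Nat.not_even_iff_odd.2 hodd h1
  have hd := hU.finrank_eq hr hsr (by rw [hcm]; exact le_top)
  have hd' := hU'.finrank_eq hr hsr (by rw [hcm]; exact le_top)
  have hc : IsCompl U U' := by
    refine ⟨disjoint_iff.2 hdis, codisjoint_iff.2 ?_⟩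
    apply Submodule.eq_top_of_finrank_eq
    rw [finrank_sup_of_disj hdis, hd, hd', hdim]
    omega
  have h2 : ∃ u ∈ U', s (s u) ≠ u := by
    by_contra hno
    push Not at hno
    obtain ⟨v, hv, hv0⟩ := (Submodule.ne_bot_iff _).1 hU'.1
    have hodd : Odd r := hrP.odd_of_ne_two hr2
    obtain ⟨k, hk⟩ := hodd
    have h3 : ∀ j : ℕ, ∀ w ∈ U', (s ^ (2 * j)) w = w := by
      intro j
      induction j with
      | zero => intro w _; simp
      | succ j ih =>
        intro w hw
        rw [mul_add, mul_one, pow_add, Module.End.mul_apply, pow_two, Module.End.mul_apply, hno w hw, ih w hw]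
    have h4 : s v = v := by
      have h5 : (s ^ r) v = v := by rw [hsr]; rfl
      rw [hk, pow_add, pow_one, Module.End.mul_apply, h3 k _ (hU'.2.1 v hv)] at h5
      exact h5
    apply hv0
    rw [← Submodule.mem_bot F, ← hfx]
    exact mem_fx.2 h4
  have key : ∀ P : F[X], Irreducible P → (∀ u ∈ U, aeval s P u = 0) → (∀ u ∈ U', aeval s P u = 0) → False := by
    intro P hP h1 h1'
    obtain ⟨S, -, hSi, hSn⟩ := exists_nd_irr hB hs hinj hP hU hU' h1 h1' hti hti' hp h2
    have h3 := heven S hSi.2.1 hSn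
    rw [hSi.finrank_eq hr hsr (by rw [hcm]; exact le_top)] at h3
    exact Nat.not_even_iff_odd.2 hodd h3
  obtain ⟨f, hf, hfU⟩ := exists_kill hU (Commute.refl s) hU.2.1
  obtain ⟨f', hf', hfU'⟩ := exists_kill hU' (Commute.refl s) hU'.2.1
  refine ⟨U, U', f, f', hd, ⟨hti, hti', hc, ?_, ?_⟩, hU, hU', hf, hf', ?_, ?_⟩
  · intro u' hu' h
    rw [← Submodule.mem_bot F, ← hp]
    exact ⟨hu', hB.mem_perp'.2 h⟩
  · intro u hu h
    by_contra hu0
    obtain ⟨v, -, hv⟩ := hnd u Submodule.mem_top hu0
    have h1 : v ∈ U ⊔ U' := by rw [hc.sup_eq_top]; trivial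
    obtain ⟨a, ha, b, hb, rfl⟩ := Submodule.mem_sup.1 h1
    apply hv
    rw [hB.add_right, hti u hu a ha, h b hb, add_zero]
  · exact ker_eq hc hU' (Commute.refl s) hfU (fun h => key f hf hfU h)
  · exact ker_eq hc.symm hU (Commute.refl s) hfU' (fun h => key f' hf' h hfU')

theorem exists_order (hnd : Nd B ⊤) (hB : Frm (RingHom.id F) ε B) (hw : Isom B w) : ∃ N, 0 < N ∧ w ^ (N + 1) = 1 := by
  have hV : Finite V := Module.finite_of_finite F
  have hE : Finite (Module.End F V) := Module.finite_of_finite F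
  have hker : LinearMap.ker w = ⊥ := by
    rw [eq_bot_iff]
    intro u hu
    rw [LinearMap.mem_ker] at hu
    by_contra hne
    obtain ⟨v, -, hv⟩ := hnd u Submodule.mem_top (fun h => hne (by rw [h]; exact Submodule.zero_mem _))
    apply hv
    rw [← hw, hu, hB.zero_left]
  obtain ⟨g, rfl⟩ := (LinearMap.isUnit_iff_ker_eq_bot w).2 hker
  have hpos : 0 < Nat.card (Module.End F V)ˣ := Nat.card_pos
  refine ⟨2 * Nat.card (Module.End F V)ˣ - 1, by omega, ?_⟩
  rw [Nat.sub_add_cancel (by omega), ← Units.val_pow_eq_pow_val, mul_comm, pow_mul, pow_card_eq_one', one_pow,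
    Units.val_one]

/-- **The centralizers of the isometries commuting with `s`.** -/
theorem tri (hB : Frm (RingHom.id F) ε B) (hnd : Nd B ⊤) (D : Dat B s U U' f f') (hodd : Odd (finrank F U))
    (hw : Isom B w) (hws : Commute w s) :
    w = 1 ∨ w = -1 ∨ ∃ P : F[X], Irreducible P ∧ (∀ u ∈ U, aeval w P u = 0) ∧ ∃ m, P.natDegree * m = finrank F U ∧
      Nat.card {g : V ≃ₗ[F] V // (∀ u v, B (g u) (g v) = B u v) ∧ ∀ v, g (w v) = w (g v)} =
        glc (Nat.card F ^ P.natDegree) m := by
  have hwU : Inv w U := inv_of_ker hws.symm D.ker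
  have hwU' : Inv w U' := inv_of_ker hws.symm D.ker'
  obtain ⟨P, hP, hPU⟩ := exists_kill D.irr hws hwU
  obtain ⟨P', hP', hPU'⟩ := exists_kill D.irr' hws hwU'
  have hnt : Nontrivial U := Submodule.nontrivial_iff_ne_bot.2 D.irr.1
  have hmin : P * C P.leadingCoeff⁻¹ = minpoly F (w.restrict hwU) := by
    apply minpoly.eq_of_irreducible hP
    ext u
    have h1 : ∀ Q : F[X], ((aeval (w.restrict hwU) Q u : U) : V) = aeval w Q u := by
      intro Q
      induction Q using Polynomial.induction_on' with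
      | add p q hp hq => rw [map_add, map_add, LinearMap.add_apply, LinearMap.add_apply, Submodule.coe_add, hp, hq]
      | monomial n a =>
        rw [aeval_monomial, aeval_monomial, Module.End.mul_apply, Module.End.mul_apply, Module.algebraMap_end_apply,
          Module.algebraMap_end_apply, Submodule.coe_smul]
        congr 1
        have h2 : ∀ (n : ℕ) (u : U), (((w.restrict hwU) ^ n) u : V) = (w ^ n) u := by
          intro n
          induction n with
          | zero => intro u; rfl
          | succ n ih => intro u; rw [pow_succ, pow_succ, Module.End.mul_apply, Module.End.mul_apply, ih]; rfl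
        exact h2 n u
    rw [h1, hPU u u.2]
    rfl
  have hlc : P.leadingCoeff⁻¹ ≠ 0 := inv_ne_zero (leadingCoeff_ne_zero.2 hP.ne_zero)
  have hirr : Irreducible (minpoly F (w.restrict hwU)) := by
    rw [← hmin]
    exact (irreducible_mul_isUnit (Polynomial.isUnit_C.2 (isUnit_iff_ne_zero.2 hlc))).2 hP
  have hdeg : (minpoly F (w.restrict hwU)).natDegree = P.natDegree := by
    rw [← hmin, natDegree_mul_C hlc]
  obtain ⟨m, hm, hcard⟩ := card_comm hirr
  rw [hdeg] at hm hcard
  obtain ⟨v', hv', hv'0⟩ := (Submodule.ne_bot_iff _).1 D.irr'.1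
  obtain ⟨v, hv, hv0⟩ := (Submodule.ne_bot_iff _).1 D.irr.1
  by_cases hcase : ∀ u ∈ U', aeval w P u = 0
  · have hPw : ∀ v, aeval w P v = 0 := by
      intro v
      have h1 : v ∈ U ⊔ U' := by rw [D.pr.compl.sup_eq_top]; trivial
      obtain ⟨a, ha, b, hb, rfl⟩ := Submodule.mem_sup.1 h1
      rw [map_add, hPU a ha, hcase b hb, add_zero]
    obtain ⟨N, hN, hwN⟩ := exists_order hnd hB hw
    have hv1 : aeval w (expand F N P) v' = 0 := by
      apply D.pr.nd _ (hwU'.aeval _ v' hv')
      intro u hu
      have h1 := adj_aeval hB hw hN hwN P u v'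
      rw [Polynomial.map_id] at h1
      rw [← h1, hPU u hu, hB.zero_left]
    have hPodd : Odd P.natDegree := by
      rw [← hm] at hodd
      exact (Nat.odd_mul.1 hodd).1
    have := eq_one_or_neg_one hP hPodd hPw (Nat.succ_pos N) hwN hv'0 (by simpa using hv1)
    tauto
  · right; right
    refine ⟨P, hP, hPU, m, hm, ?_⟩
    have hker : LinearMap.ker (aeval w P) = U := ker_eq D.pr.compl D.irr' hws hPU hcase
    have hcase' : ¬ ∀ u ∈ U, aeval w P' u = 0 := by
      intro h
      apply hcase
      have h1 : P' ∣ P := kill_of_kill hP' hv0 (h v hv) (hPU v hv)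
      exact fun u hu => kill_mul h1 (hPU' u hu)
    have hker' : LinearMap.ker (aeval w P') = U' := ker_eq D.pr.compl.symm D.irr hws hPU' hcase'
    rw [← hcard]
    apply D.pr.card_comm hB hw hwU hwU'
    · intro g _ hg
      exact inv_of_ker (LinearMap.ext fun v => (hg v).symm) hker
    · intro g _ hg
      exact inv_of_ker (LinearMap.ext fun v => (hg v).symm) hker'

theorem glc_one (Q : ℕ) : glc Q 1 = Q - 1 := by
  simp [glc]

/-- **The centralizer of `s`.** -/
theorem card_self (hB : Frm (RingHom.id F) ε B) (hnd : Nd B ⊤) (D : Dat B s U U' f f') (hodd : Odd (finrank F U))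
    (hs : Isom B s) (h1 : s ≠ 1) (h2 : s ≠ -1) :
    Nat.card {g : V ≃ₗ[F] V // (∀ u v, B (g u) (g v) = B u v) ∧ ∀ v, g (s v) = s (g v)} =
      Nat.card F ^ finrank F U - 1 := by
  rcases tri hB hnd D hodd hs (Commute.refl s) with h | h | ⟨P, hP, hPU, m, hm, hcard⟩
  · exact absurd h h1
  · exact absurd h h2
  · have h3 := D.irr.finrank_eq_natDegree hP hPU
    have h4 : 0 < P.natDegree := hP.natDegree_pos
    rw [h3] at hm ⊢
    have h5 : m = 1 := Nat.eq_of_mul_eq_mul_left h4 (by rw [hm, mul_one])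
    rw [hcard, h5, glc_one]

end Main

end Cfsg.Agent.H79.CS
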